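import Cfsg.Agent.Schur.Main

set_option autoImplicit false
set_option maxRecDepth 100000

namespace Cfsg.Agent.Comp.F4M
open Cfsg.Agent.Comp Cfsg.Agent.Schur

def T : List (List (List Nat)) :=
  [[[]],
   [[1, 2], []],
   [[2], [2], []],
   [[3], [3, 4, 6], [3, 5, 7], []],
   [[4, 5, 8], [4], [4], [4], []],
   [[5], [5], [5], [5], [5], []],
   [[6, 7], [6], [6, 8], [6], [6], [6], []],
   [[7], [7, 8], [7], [7], [7], [7], [7], []],
   [[8], [8], [8], [8], [8], [8], [8], [8], []],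
   [[9], [9], [9], [9, 10], [9, 11], [9, 12], [9, 13, 17], [9, 14, 18], [9, 15, 19], []],
   [[10], [10, 11, 17], [10, 12, 18], [10], [10, 13], [10, 14], [10], [10], [10, 16, 21], [10], []],
   [[11, 12, 19], [11], [11], [11, 13], [11], [11, 15], [11], [11, 16, 22], [11], [11], [11], []],
   [[12], [12], [12], [12, 14], [12, 15], [12], [12, 16, 23], [12], [12], [12], [12], [12], []],
   [[13, 14, 21], [13], [13, 15, 22], [13], [13], [13, 16], [13], [13], [13], [13], [13], [13], [13, 20], []],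
   [[14], [14, 15, 23], [14], [14], [14, 16], [14], [14], [14], [14], [14], [14], [14, 20], [14], [14], []],
   [[15], [15], [15], [15, 16], [15], [15], [15], [15], [15], [15], [15, 20], [15], [15], [15], [15], []],
   [[16], [16], [16], [16], [16], [16], [16], [16], [16], [16, 20], [16], [16], [16], [16], [16], [16], []],
   [[17, 18], [17], [17, 19], [17], [17], [17, 20, 23], [17], [17, 21], [17, 22], [17], [17], [17], [17], [17], [17], [17], [17], []],
   [[18], [18, 19], [18], [18], [18, 20, 22], [18], [18, 21], [18], [18, 23], [18], [18], [18], [18], [18], [18], [18], [18], [18], []],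
   [[19], [19], [19], [19, 20, 21], [19], [19], [19, 22], [19, 23], [19], [19], [19], [19], [19], [19], [19], [19], [19], [19], [19], []],
   [[20], [20], [20], [20], [20], [20], [20], [20], [20], [20], [20], [20], [20], [20], [20], [20], [20], [20], [20], [20], []],
   [[21], [21, 22], [21, 23], [21], [21], [21], [21], [21], [21], [21], [21], [21], [21], [21], [21], [21], [21], [21], [21], [21], [21], []],
   [[22, 23], [22], [22], [22], [22], [22], [22], [22], [22], [22], [22], [22], [22], [22], [22], [22], [22], [22], [22], [22], [22], [22], []],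
   [[23], [23], [23], [23], [23], [23], [23], [23], [23], [23], [23], [23], [23], [23], [23], [23], [23], [23], [23], [23], [23], [23], [23], []]]

def Y : List (Nat × List Nat × List Nat) :=
  [(24, [0], [0]),
   (24, [1], [1]),
   (24, [2], [2]),
   (24, [3], [10]),
   (24, [4], [11]),
   (24, [5], [12]),
   (24, [6], [17]),
   (24, [7], [18]),
   (24, [8], [19]),
   (24, [10], [3]),
   (24, [11], [4]),
   (24, [12], [5]),
   (24, [13], [13]),
   (24, [14], [14]),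
   (24, [15], [15]),
   (24, [16], [20]),
   (24, [17], [6]),
   (24, [18], [7]),
   (24, [19], [8]),
   (24, [20], [16]),
   (24, [21], [21]),
   (24, [22], [22]),
   (24, [23], [23]),
   (25, [0], [0]),
   (25, [1], [6]),
   (25, [2], [7]),
   (25, [4], [4]),
   (25, [5], [5]),
   (25, [6], [1]),
   (25, [7], [2]),
   (25, [8], [8]),
   (25, [9], [10]),
   (25, [10], [9]),
   (25, [11], [13]),
   (25, [12], [14]),
   (25, [13], [11]),
   (25, [14], [12]),
   (25, [15], [16]),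
   (25, [16], [15]),
   (25, [17], [17]),
   (25, [18], [18]),
   (25, [19], [21]),
   (25, [20], [20]),
   (25, [21], [19]),
   (25, [22], [22]),
   (25, [23], [23]),
   (26, [0], [2]),
   (26, [2], [0]),
   (26, [3], [4]),
   (26, [4], [3]),
   (26, [5], [5]),
   (26, [6], [6]),
   (26, [7], [8]),
   (26, [8], [7]),
   (26, [9], [9]),
   (26, [10], [11]),
   (26, [11], [10]),
   (26, [12], [12]),
   (26, [13], [13]),
   (26, [14], [15]),
   (26, [15], [14]),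
   (26, [16], [16]),
   (26, [17], [17]),
   (26, [18], [19]),
   (26, [19], [18]),
   (26, [20], [20]),
   (26, [21], [22]),
   (26, [22], [21]),
   (26, [23], [23]),
   (27, [1], [2]),
   (27, [2], [1]),
   (27, [3], [3]),
   (27, [4], [5]),
   (27, [5], [4]),
   (27, [6], [7]),
   (27, [7], [6]),
   (27, [8], [8]),
   (27, [9], [9]),
   (27, [10], [10]),
   (27, [11], [12]),
   (27, [12], [11]),
   (27, [13], [14]),
   (27, [14], [13]),
   (27, [15], [15]),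
   (27, [16], [16]),
   (27, [17], [18]),
   (27, [18], [17]),
   (27, [19], [19]),
   (27, [20], [20]),
   (27, [21], [21]),
   (27, [22], [23]),
   (27, [23], [22])]

def I0 : List Ins :=
  [Ins.stab (nat_lit 25) [39, 23] [23, 39, 40] (nat_lit 0x15501),
   Ins.stab (nat_lit 25) [39, 30] [30, 39, 44] (nat_lit 0x15901),
   Ins.stab (nat_lit 25) [40, 30] [30, 40, 45] (nat_lit 0x15a01),
   Ins.stab (nat_lit 26) [54, 50] [50, 54, 57] (nat_lit 0x16601),
   Ins.stab (nat_lit 26) [58, 50] [50, 58, 61] (nat_lit 0x16a01),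
   Ins.stab (nat_lit 26) [58, 57] [57, 58, 65] (nat_lit 0x16e01),
   Ins.stab (nat_lit 27) [83, 71] [71, 83, 84] (nat_lit 0x18101),
   Ins.stab (nat_lit 27) [83, 78] [78, 83, 88] (nat_lit 0x18501),
   Ins.cons (nat_lit 0x6) (nat_lit 1) (nat_lit 0x42) (nat_lit 0x1201),
   Ins.cons (nat_lit 0x7) (nat_lit 1) (nat_lit 0x83) (nat_lit 0x2603),
   Ins.cons (nat_lit 0x7) (nat_lit 1) (nat_lit 0x44) (nat_lit 0x2001),
   Ins.cons (nat_lit 0x7) (nat_lit 1) (nat_lit 0xc5) (nat_lit 0x2901),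
   Ins.cons (nat_lit 0x7) (nat_lit 1) (nat_lit 0x46) (nat_lit 0x2201),
   Ins.cons (nat_lit 0x7) (nat_lit 1) (nat_lit 0xc6) (nat_lit 0x2a01),
   Ins.cons (nat_lit 0x8) (nat_lit 1) (nat_lit 0x83) (nat_lit 0x2701),
   Ins.cons (nat_lit 0x8) (nat_lit 1) (nat_lit 0x87) (nat_lit 0x2b01),
   Ins.cons (nat_lit 0x8) (nat_lit 1) (nat_lit 0xc7) (nat_lit 0x2c03),
   Ins.cons (nat_lit 0xa) (nat_lit 1) (nat_lit 0x42) (nat_lit 0x3001),
   Ins.cons (nat_lit 0xa) (nat_lit 1) (nat_lit 0x44) (nat_lit 0x3803),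
   Ins.cons (nat_lit 0xa) (nat_lit 1) (nat_lit 0x85) (nat_lit 0x4403),
   Ins.cons (nat_lit 0xa) (nat_lit 1) (nat_lit 0xc5) (nat_lit 0x4503),
   Ins.cons (nat_lit 0xa) (nat_lit 1) (nat_lit 0x46) (nat_lit 0x4f03),
   Ins.cons (nat_lit 0xa) (nat_lit 1) (nat_lit 0x86) (nat_lit 0x5003),
   Ins.cons (nat_lit 0xa) (nat_lit 1) (nat_lit 0xc6) (nat_lit 0x5103),
   Ins.cons (nat_lit 0xb) (nat_lit 1) (nat_lit 0x105) (nat_lit 0x5f03),
   Ins.cons (nat_lit 0xb) (nat_lit 1) (nat_lit 0x46) (nat_lit 0x6a03),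
   Ins.cons (nat_lit 0xb) (nat_lit 1) (nat_lit 0x106) (nat_lit 0x6d03),
   Ins.cons (nat_lit 0xb) (nat_lit 1) (nat_lit 0x47) (nat_lit 0x3f01),
   Ins.cons (nat_lit 0xb) (nat_lit 1) (nat_lit 0x147) (nat_lit 0x6201),
   Ins.cons (nat_lit 0xb) (nat_lit 1) (nat_lit 0x187) (nat_lit 0x7001),
   Ins.cons (nat_lit 0xb) (nat_lit 1) (nat_lit 0x148) (nat_lit 0x6301),
   Ins.cons (nat_lit 0xb) (nat_lit 1) (nat_lit 0x188) (nat_lit 0x7101),
   Ins.cons (nat_lit 0xc) (nat_lit 1) (nat_lit 0x105) (nat_lit 0x6001),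
   Ins.cons (nat_lit 0xc) (nat_lit 1) (nat_lit 0x86) (nat_lit 0x7a03),
   Ins.cons (nat_lit 0xc) (nat_lit 1) (nat_lit 0xc6) (nat_lit 0x7b03),
   Ins.cons (nat_lit 0xc) (nat_lit 1) (nat_lit 0x146) (nat_lit 0x7d03),
   Ins.cons (nat_lit 0xc) (nat_lit 1) (nat_lit 0xc7) (nat_lit 0x4b01),
   Ins.cons (nat_lit 0xc) (nat_lit 1) (nat_lit 0x187) (nat_lit 0x7f01),
   Ins.cons (nat_lit 0xc) (nat_lit 1) (nat_lit 0x109) (nat_lit 0x6401),
   Ins.cons (nat_lit 0xc) (nat_lit 1) (nat_lit 0x189) (nat_lit 0x8101),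
   Ins.cons (nat_lit 0xc) (nat_lit 1) (nat_lit 0x10b) (nat_lit 0x6601),
   Ins.cons (nat_lit 0xc) (nat_lit 1) (nat_lit 0x14b) (nat_lit 0x6703),
   Ins.cons (nat_lit 0xd) (nat_lit 1) (nat_lit 0x106) (nat_lit 0x6f01),
   Ins.cons (nat_lit 0xd) (nat_lit 1) (nat_lit 0x146) (nat_lit 0x7e01),
   Ins.cons (nat_lit 0xd) (nat_lit 1) (nat_lit 0x88) (nat_lit 0x5701),
   Ins.cons (nat_lit 0xd) (nat_lit 1) (nat_lit 0x148) (nat_lit 0x8001),
   Ins.cons (nat_lit 0xd) (nat_lit 1) (nat_lit 0x109) (nat_lit 0x7201),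
   Ins.cons (nat_lit 0xd) (nat_lit 1) (nat_lit 0x10b) (nat_lit 0x7401),
   Ins.cons (nat_lit 0xd) (nat_lit 1) (nat_lit 0x18b) (nat_lit 0x7603),
   Ins.cons (nat_lit 0xd) (nat_lit 1) (nat_lit 0x14c) (nat_lit 0x8401),
   Ins.cons (nat_lit 0xd) (nat_lit 1) (nat_lit 0x18c) (nat_lit 0x8503),
   Ins.cons (nat_lit 0xe) (nat_lit 1) (nat_lit 0x86) (nat_lit 0x8a03),
   Ins.cons (nat_lit 0xe) (nat_lit 1) (nat_lit 0x106) (nat_lit 0x8c03),
   Ins.cons (nat_lit 0xe) (nat_lit 1) (nat_lit 0x146) (nat_lit 0x8d03),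
   Ins.cons (nat_lit 0xe) (nat_lit 1) (nat_lit 0x187) (nat_lit 0x8f01),
   Ins.cons (nat_lit 0xe) (nat_lit 1) (nat_lit 0x188) (nat_lit 0x9001),
   Ins.cons (nat_lit 0xe) (nat_lit 1) (nat_lit 0x189) (nat_lit 0x9101),
   Ins.cons (nat_lit 0xe) (nat_lit 1) (nat_lit 0x8d) (nat_lit 0xd403),
   Ins.cons (nat_lit 0xe) (nat_lit 1) (nat_lit 0x20d) (nat_lit 0xda03),
   Ins.cons (nat_lit 0xe) (nat_lit 1) (nat_lit 0x24d) (nat_lit 0xdb03),
   Ins.cons (nat_lit 0xe) (nat_lit 1) (nat_lit 0x28d) (nat_lit 0xdc03),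
   Ins.cons (nat_lit 0xe) (nat_lit 1) (nat_lit 0x2cd) (nat_lit 0xdd03),
   Ins.cons (nat_lit 0xe) (nat_lit 1) (nat_lit 0x30d) (nat_lit 0xde03),
   Ins.cons (nat_lit 0xf) (nat_lit 1) (nat_lit 0xc5) (nat_lit 0x8b03),
   Ins.cons (nat_lit 0xf) (nat_lit 1) (nat_lit 0x146) (nat_lit 0x8e01),
   Ins.cons (nat_lit 0xf) (nat_lit 1) (nat_lit 0xcc) (nat_lit 0xd503),
   Ins.cons (nat_lit 0xf) (nat_lit 1) (nat_lit 0x1cc) (nat_lit 0xd903),
   Ins.cons (nat_lit 0xf) (nat_lit 1) (nat_lit 0x30d) (nat_lit 0xdf01),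
   Ins.cons (nat_lit 0xf) (nat_lit 1) (nat_lit 0x14e) (nat_lit 0x9601),
   Ins.cons (nat_lit 0xf) (nat_lit 1) (nat_lit 0x18e) (nat_lit 0x9703),
   Ins.cons (nat_lit 0xf) (nat_lit 1) (nat_lit 0x30e) (nat_lit 0xe001),
   Ins.cons (nat_lit 0xf) (nat_lit 1) (nat_lit 0x34e) (nat_lit 0xe103),
   Ins.cons (nat_lit 0x10) (nat_lit 1) (nat_lit 0x44) (nat_lit 0x8903),
   Ins.cons (nat_lit 0x10) (nat_lit 1) (nat_lit 0x4b) (nat_lit 0xd303),
   Ins.cons (nat_lit 0x10) (nat_lit 1) (nat_lit 0x18e) (nat_lit 0x9803),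
   Ins.cons (nat_lit 0x10) (nat_lit 1) (nat_lit 0x34e) (nat_lit 0xe203),
   Ins.cons (nat_lit 0x11) (nat_lit 1) (nat_lit 0x34e) (nat_lit 0xe303),
   Ins.cons (nat_lit 0x12) (nat_lit 1) (nat_lit 0x83) (nat_lit 0xc003),
   Ins.cons (nat_lit 0x12) (nat_lit 1) (nat_lit 0x44) (nat_lit 0xaf01),
   Ins.cons (nat_lit 0x12) (nat_lit 1) (nat_lit 0xc5) (nat_lit 0xc301)]

theorem ins0 : InsOK 24 0 392 T Y 3 I0 :=
  InsOK.of 10 (show lall (insOK (nat_lit 24) (nat_lit 0) (nat_lit 10) (nat_lit 392) T Y (nat_lit 3)) I0 = true by decide +kernel)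

def I1 : List Ins :=
  [Ins.cons (nat_lit 0x12) (nat_lit 1) (nat_lit 0x108) (nat_lit 0xeb03),
   Ins.cons (nat_lit 0x12) (nat_lit 1) (nat_lit 0x148) (nat_lit 0xec03),
   Ins.cons (nat_lit 0x12) (nat_lit 1) (nat_lit 0x1c8) (nat_lit 0xee03),
   Ins.cons (nat_lit 0x12) (nat_lit 1) (nat_lit 0x89) (nat_lit 0xff03),
   Ins.cons (nat_lit 0x12) (nat_lit 1) (nat_lit 0x109) (nat_lit 0x10103),
   Ins.cons (nat_lit 0x12) (nat_lit 1) (nat_lit 0x149) (nat_lit 0x10203),
   Ins.cons (nat_lit 0x12) (nat_lit 1) (nat_lit 0x1c9) (nat_lit 0x10403),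
   Ins.cons (nat_lit 0x12) (nat_lit 1) (nat_lit 0x4a) (nat_lit 0xb501),
   Ins.cons (nat_lit 0x12) (nat_lit 1) (nat_lit 0xca) (nat_lit 0xc801),
   Ins.cons (nat_lit 0x12) (nat_lit 1) (nat_lit 0x10a) (nat_lit 0xa401),
   Ins.cons (nat_lit 0x12) (nat_lit 1) (nat_lit 0x14a) (nat_lit 0xa501),
   Ins.cons (nat_lit 0x12) (nat_lit 1) (nat_lit 0x4b) (nat_lit 0xb601),
   Ins.cons (nat_lit 0x12) (nat_lit 1) (nat_lit 0x14b) (nat_lit 0xa701),
   Ins.cons (nat_lit 0x12) (nat_lit 1) (nat_lit 0x20b) (nat_lit 0xf201),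
   Ins.cons (nat_lit 0x12) (nat_lit 1) (nat_lit 0xcc) (nat_lit 0xca01),
   Ins.cons (nat_lit 0x12) (nat_lit 1) (nat_lit 0x24c) (nat_lit 0x10901),
   Ins.cons (nat_lit 0x12) (nat_lit 1) (nat_lit 0x4d) (nat_lit 0xb801),
   Ins.cons (nat_lit 0x12) (nat_lit 1) (nat_lit 0xcd) (nat_lit 0xcb01),
   Ins.cons (nat_lit 0x12) (nat_lit 1) (nat_lit 0x10d) (nat_lit 0xa801),
   Ins.cons (nat_lit 0x12) (nat_lit 1) (nat_lit 0x14d) (nat_lit 0xa901),
   Ins.cons (nat_lit 0x12) (nat_lit 1) (nat_lit 0x20d) (nat_lit 0xf401),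
   Ins.cons (nat_lit 0x12) (nat_lit 1) (nat_lit 0x24d) (nat_lit 0x10a01),
   Ins.cons (nat_lit 0x12) (nat_lit 1) (nat_lit 0x20e) (nat_lit 0xf501),
   Ins.cons (nat_lit 0x12) (nat_lit 1) (nat_lit 0x24e) (nat_lit 0x10b01),
   Ins.cons (nat_lit 0x12) (nat_lit 1) (nat_lit 0x34e) (nat_lit 0xe403),
   Ins.cons (nat_lit 0x12) (nat_lit 1) (nat_lit 0x4f) (nat_lit 0xba01),
   Ins.cons (nat_lit 0x12) (nat_lit 1) (nat_lit 0xcf) (nat_lit 0xcd01),
   Ins.cons (nat_lit 0x12) (nat_lit 1) (nat_lit 0x14f) (nat_lit 0xaa01),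
   Ins.cons (nat_lit 0x12) (nat_lit 1) (nat_lit 0x20f) (nat_lit 0xf601),
   Ins.cons (nat_lit 0x12) (nat_lit 1) (nat_lit 0x24f) (nat_lit 0x10c01),
   Ins.cons (nat_lit 0x12) (nat_lit 1) (nat_lit 0x50) (nat_lit 0xbb01),
   Ins.cons (nat_lit 0x12) (nat_lit 1) (nat_lit 0xd0) (nat_lit 0xce01),
   Ins.cons (nat_lit 0x12) (nat_lit 1) (nat_lit 0x210) (nat_lit 0xf701),
   Ins.cons (nat_lit 0x12) (nat_lit 1) (nat_lit 0x250) (nat_lit 0x10d01),
   Ins.cons (nat_lit 0x12) (nat_lit 1) (nat_lit 0x51) (nat_lit 0xbc01),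
   Ins.cons (nat_lit 0x12) (nat_lit 1) (nat_lit 0xd1) (nat_lit 0xcf01),
   Ins.cons (nat_lit 0x12) (nat_lit 1) (nat_lit 0x211) (nat_lit 0xf801),
   Ins.cons (nat_lit 0x12) (nat_lit 1) (nat_lit 0x251) (nat_lit 0x10e01),
   Ins.cons (nat_lit 0x13) (nat_lit 1) (nat_lit 0x83) (nat_lit 0xc101),
   Ins.cons (nat_lit 0x13) (nat_lit 1) (nat_lit 0x86) (nat_lit 0xc401),
   Ins.cons (nat_lit 0x13) (nat_lit 1) (nat_lit 0x187) (nat_lit 0xed03),
   Ins.cons (nat_lit 0x13) (nat_lit 1) (nat_lit 0x1c8) (nat_lit 0xef01),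
   Ins.cons (nat_lit 0x13) (nat_lit 1) (nat_lit 0x49) (nat_lit 0x11503),
   Ins.cons (nat_lit 0x13) (nat_lit 1) (nat_lit 0xc9) (nat_lit 0x11703),
   Ins.cons (nat_lit 0x13) (nat_lit 1) (nat_lit 0x109) (nat_lit 0x11803),
   Ins.cons (nat_lit 0x13) (nat_lit 1) (nat_lit 0x189) (nat_lit 0x11a03),
   Ins.cons (nat_lit 0x13) (nat_lit 1) (nat_lit 0x209) (nat_lit 0x11c03),
   Ins.cons (nat_lit 0x13) (nat_lit 1) (nat_lit 0x10c) (nat_lit 0xb901),
   Ins.cons (nat_lit 0x13) (nat_lit 1) (nat_lit 0x1cc) (nat_lit 0xf301),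
   Ins.cons (nat_lit 0x13) (nat_lit 1) (nat_lit 0x24c) (nat_lit 0x12001),
   Ins.cons (nat_lit 0x13) (nat_lit 1) (nat_lit 0x24d) (nat_lit 0x12101),
   Ins.cons (nat_lit 0x13) (nat_lit 1) (nat_lit 0x8e) (nat_lit 0xcc01),
   Ins.cons (nat_lit 0x13) (nat_lit 1) (nat_lit 0x24e) (nat_lit 0x12201),
   Ins.cons (nat_lit 0x13) (nat_lit 1) (nat_lit 0x34e) (nat_lit 0xe503),
   Ins.cons (nat_lit 0x13) (nat_lit 1) (nat_lit 0x24f) (nat_lit 0x12301),
   Ins.cons (nat_lit 0x13) (nat_lit 1) (nat_lit 0x250) (nat_lit 0x12401),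
   Ins.cons (nat_lit 0x13) (nat_lit 1) (nat_lit 0x251) (nat_lit 0x12501),
   Ins.cons (nat_lit 0x13) (nat_lit 1) (nat_lit 0x92) (nat_lit 0xd001),
   Ins.cons (nat_lit 0x13) (nat_lit 1) (nat_lit 0xd2) (nat_lit 0xd103),
   Ins.cons (nat_lit 0x13) (nat_lit 1) (nat_lit 0x1d2) (nat_lit 0xf901),
   Ins.cons (nat_lit 0x13) (nat_lit 1) (nat_lit 0x212) (nat_lit 0xfa03),
   Ins.cons (nat_lit 0x14) (nat_lit 1) (nat_lit 0x187) (nat_lit 0x10303),
   Ins.cons (nat_lit 0x14) (nat_lit 1) (nat_lit 0x148) (nat_lit 0x11903),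
   Ins.cons (nat_lit 0x14) (nat_lit 1) (nat_lit 0x1c9) (nat_lit 0x10601),
   Ins.cons (nat_lit 0x14) (nat_lit 1) (nat_lit 0x209) (nat_lit 0x11d01),
   Ins.cons (nat_lit 0x14) (nat_lit 1) (nat_lit 0x1cb) (nat_lit 0x10801),
   Ins.cons (nat_lit 0x14) (nat_lit 1) (nat_lit 0x20b) (nat_lit 0x11f01),
   Ins.cons (nat_lit 0x14) (nat_lit 1) (nat_lit 0x34e) (nat_lit 0xe603),
   Ins.cons (nat_lit 0x14) (nat_lit 1) (nat_lit 0x1d2) (nat_lit 0x10f01),
   Ins.cons (nat_lit 0x14) (nat_lit 1) (nat_lit 0x252) (nat_lit 0x11103),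
   Ins.cons (nat_lit 0x14) (nat_lit 1) (nat_lit 0x213) (nat_lit 0x12701),
   Ins.cons (nat_lit 0x14) (nat_lit 1) (nat_lit 0x253) (nat_lit 0x12803),
   Ins.cons (nat_lit 0x15) (nat_lit 1) (nat_lit 0x212) (nat_lit 0xfc03),
   Ins.cons (nat_lit 0x15) (nat_lit 1) (nat_lit 0x252) (nat_lit 0x11203),
   Ins.cons (nat_lit 0x15) (nat_lit 1) (nat_lit 0x253) (nat_lit 0x12903),
   Ins.cons (nat_lit 0x16) (nat_lit 1) (nat_lit 0x8a) (nat_lit 0x10701),
   Ins.cons (nat_lit 0x16) (nat_lit 1) (nat_lit 0xca) (nat_lit 0x11e01),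
   Ins.cons (nat_lit 0x16) (nat_lit 1) (nat_lit 0x252) (nat_lit 0x11303),
   Ins.cons (nat_lit 0x16) (nat_lit 1) (nat_lit 0x253) (nat_lit 0x12a03),
   Ins.cons (nat_lit 0x17) (nat_lit 1) (nat_lit 0x253) (nat_lit 0x12b03)]

theorem ins1 : InsOK 24 0 392 T Y 3 I1 :=
  InsOK.of 10 (show lall (insOK (nat_lit 24) (nat_lit 0) (nat_lit 10) (nat_lit 392) T Y (nat_lit 3)) I1 = true by decide +kernel)

def I2 : List Ins :=
  [Ins.cons (nat_lit 0x5) (nat_lit 1) (nat_lit 0x84) (nat_lit 0x1a03),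
   Ins.stab (nat_lit 24) [3, 0] [0, 3] (nat_lit 0x380300701),
   Ins.stab (nat_lit 24) [4, 1] [1, 4] (nat_lit 0x440300c01),
   Ins.stab (nat_lit 24) [4, 2] [2, 4] (nat_lit 0x450300d01),
   Ins.stab (nat_lit 24) [4, 3] [3, 4] (nat_lit 0x4d0300e01),
   Ins.stab (nat_lit 24) [5, 0] [0, 5] (nat_lit 0x4f0301001),
   Ins.stab (nat_lit 24) [5, 1] [1, 5] (nat_lit 0x500301101),
   Ins.stab (nat_lit 24) [5, 3] [3, 5] (nat_lit 0x590301301),
   Ins.stab (nat_lit 24) [5, 4] [4, 5] (nat_lit 0x5a0301401),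
   Ins.stab (nat_lit 24) [6, 1] [1, 6] (nat_lit 0x9b0301701),
   Ins.stab (nat_lit 24) [6, 3] [3, 6] (nat_lit 0xa40301901),
   Ins.stab (nat_lit 24) [6, 5] [5, 6] (nat_lit 0xa60301b01),
   Ins.stab (nat_lit 24) [7, 0] [0, 7] (nat_lit 0xac0301d01),
   Ins.stab (nat_lit 24) [7, 2] [2, 7] (nat_lit 0xae0301f01),
   Ins.stab (nat_lit 24) [7, 4] [4, 7] (nat_lit 0xb70302101),
   Ins.stab (nat_lit 24) [7, 6] [6, 7] (nat_lit 0xbd0302301),
   Ins.stab (nat_lit 24) [8, 0] [0, 8] (nat_lit 0xbf0302501),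
   Ins.stab (nat_lit 24) [8, 3] [3, 8] (nat_lit 0xc90302801),
   Ins.stab (nat_lit 24) [9, 6] [6, 9] (nat_lit 0x9d0103e01),
   Ins.stab (nat_lit 24) [10, 6] [6, 10] (nat_lit 0x9e0104901),
   Ins.stab (nat_lit 24) [11, 7] [7, 11] (nat_lit 0xb10105601),
   Ins.stab (nat_lit 24) [15, 9] [9, 15] (nat_lit 0xd60309301),
   Ins.stab (nat_lit 24) [15, 10] [10, 15] (nat_lit 0xd70309401),
   Ins.stab (nat_lit 24) [15, 11] [11, 15] (nat_lit 0xd80309501),
   Ins.stab (nat_lit 24) [20, 8] [8, 20] (nat_lit 0xfb030f001),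
   Ins.stab (nat_lit 24) [21, 7] [7, 21] (nat_lit 0x1100310501),
   Ins.stab (nat_lit 24) [22, 6] [6, 22] (nat_lit 0x1260311b01),
   Ins.stab (nat_lit 25) [25, 23] [23, 25] (nat_lit 0x1d0300401),
   Ins.stab (nat_lit 25) [25, 24] [24, 25] (nat_lit 0x230300501),
   Ins.stab (nat_lit 25) [26, 25] [25, 26] (nat_lit 0x210100d01),
   Ins.stab (nat_lit 25) [27, 24] [24, 27] (nat_lit 0x1b0101101),
   Ins.stab (nat_lit 25) [31, 23] [23, 31] (nat_lit 0x380302e01),
   Ins.stab (nat_lit 25) [31, 24] [24, 31] (nat_lit 0x3e0302f01),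
   Ins.stab (nat_lit 25) [33, 26] [26, 33] (nat_lit 0x600304701),
   Ins.stab (nat_lit 25) [33, 28] [28, 33] (nat_lit 0x5d0304901),
   Ins.stab (nat_lit 25) [33, 31] [31, 33] (nat_lit 0x660304c01),
   Ins.stab (nat_lit 25) [33, 32] [32, 33] (nat_lit 0x650304d01),
   Ins.stab (nat_lit 25) [34, 27] [27, 34] (nat_lit 0x6f0305401),
   Ins.stab (nat_lit 25) [34, 29] [29, 34] (nat_lit 0x6c0305601),
   Ins.stab (nat_lit 25) [34, 31] [31, 34] (nat_lit 0x740305801),
   Ins.stab (nat_lit 25) [34, 32] [32, 34] (nat_lit 0x730305901),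
   Ins.stab (nat_lit 25) [34, 33] [33, 34] (nat_lit 0x770305a01),
   Ins.stab (nat_lit 25) [37, 23] [23, 37] (nat_lit 0x890307901),
   Ins.stab (nat_lit 25) [37, 31] [31, 37] (nat_lit 0x930308201),
   Ins.stab (nat_lit 25) [37, 35] [35, 37] (nat_lit 0x940308601),
   Ins.stab (nat_lit 25) [37, 36] [36, 37] (nat_lit 0x950308701),
   Ins.stab (nat_lit 25) [39, 24] [24, 39] (nat_lit 0xa00309b01),
   Ins.stab (nat_lit 25) [39, 31] [31, 39] (nat_lit 0xa4030a301),
   Ins.stab (nat_lit 25) [40, 25] [25, 40] (nat_lit 0xb3030ae01),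
   Ins.stab (nat_lit 25) [41, 23] [23, 41] (nat_lit 0xe8030bf01),
   Ins.stab (nat_lit 25) [41, 30] [30, 41] (nat_lit 0xf0030c701),
   Ins.stab (nat_lit 25) [41, 32] [32, 41] (nat_lit 0xf1030c901),
   Ins.stab (nat_lit 25) [44, 25] [25, 44] (nat_lit 0x1050310001),
   Ins.stab (nat_lit 25) [45, 24] [24, 45] (nat_lit 0x11b0311601),
   Ins.stab (nat_lit 26) [50, 48] [48, 50] (nat_lit 0x140301301),
   Ins.stab (nat_lit 26) [52, 46] [46, 52] (nat_lit 0x270301d01),
   Ins.stab (nat_lit 26) [52, 47] [47, 52] (nat_lit 0x250301f01),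
   Ins.stab (nat_lit 26) [52, 49] [49, 52] (nat_lit 0x280302101),
   Ins.stab (nat_lit 26) [52, 51] [51, 52] (nat_lit 0x2b0302301),
   Ins.stab (nat_lit 26) [55, 48] [48, 55] (nat_lit 0x470303b01),
   Ins.stab (nat_lit 26) [55, 51] [51, 55] (nat_lit 0x490303e01),
   Ins.stab (nat_lit 26) [55, 54] [54, 55] (nat_lit 0x4c0304101),
   Ins.stab (nat_lit 26) [57, 52] [52, 57] (nat_lit 0x570305601),
   Ins.stab (nat_lit 26) [59, 54] [54, 59] (nat_lit 0x820307301),
   Ins.stab (nat_lit 26) [59, 58] [58, 59] (nat_lit 0x860307701),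
   Ins.stab (nat_lit 26) [63, 52] [52, 63] (nat_lit 0xc7030b301),
   Ins.stab (nat_lit 26) [66, 46] [46, 66] (nat_lit 0x100030e801),
   Ins.stab (nat_lit 27) [72, 71] [71, 72] (nat_lit 0x130300e01),
   Ins.stab (nat_lit 27) [74, 69] [69, 74] (nat_lit 0x1f0301701),
   Ins.stab (nat_lit 27) [77, 69] [69, 77] (nat_lit 0x300302f01),
   Ins.stab (nat_lit 27) [83, 81] [81, 83] (nat_lit 0x870308601),
   Ins.stab (nat_lit 27) [90, 70] [70, 90] (nat_lit 0x1160310001),
   Ins.stab (nat_lit 24) [12, 0] [0, 12, 13, 20] (nat_lit 0x1410113a01),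
   Ins.stab (nat_lit 25) [39, 27] [27, 39, 42, 45] (nat_lit 0x15a0115701),
   Ins.stab (nat_lit 26) [57, 51] [51, 57, 61, 68] (nat_lit 0x1710116a01),
   Ins.stab (nat_lit 27) [77, 76] [76, 77, 83, 87] (nat_lit 0x1840118001),
   Ins.cons (nat_lit 0x5) (nat_lit 1) (nat_lit 0x44) (nat_lit 0x280101301),
   Ins.cons (nat_lit 0xa) (nat_lit 1) (nat_lit 0x87) (nat_lit 0x9b0305d03),
   Ins.stab (nat_lit 24) [3, 3] [] (nat_lit 0x130020420300a01),
   Ins.stab (nat_lit 24) [4, 4] [] (nat_lit 0x1310204e0300f01)]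

theorem ins2 : InsOK 24 0 392 T Y 3 I2 :=
  InsOK.of 10 (show lall (insOK (nat_lit 24) (nat_lit 0) (nat_lit 10) (nat_lit 392) T Y (nat_lit 3)) I2 = true by decide +kernel)

def I3 : List Ins :=
  [Ins.stab (nat_lit 24) [5, 5] [] (nat_lit 0x1320205b0301501),
   Ins.stab (nat_lit 24) [6, 6] [] (nat_lit 0x133020ab0301c01),
   Ins.stab (nat_lit 24) [7, 7] [] (nat_lit 0x134020be0302401),
   Ins.stab (nat_lit 24) [8, 8] [] (nat_lit 0x135020d20302d01),
   Ins.stab (nat_lit 24) [15, 15] [] (nat_lit 0x13c020e70309901),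
   Ins.stab (nat_lit 25) [24, 24] [] (nat_lit 0x1450201c0300301),
   Ins.stab (nat_lit 25) [25, 25] [] (nat_lit 0x146020240300601),
   Ins.stab (nat_lit 25) [31, 31] [] (nat_lit 0x14c020420303701),
   Ins.stab (nat_lit 25) [33, 33] [] (nat_lit 0x14e020690304e01),
   Ins.stab (nat_lit 25) [34, 34] [] (nat_lit 0x14f020780305b01),
   Ins.stab (nat_lit 25) [37, 37] [] (nat_lit 0x152020990308801),
   Ins.stab (nat_lit 25) [41, 41] [] (nat_lit 0x156020fd030d201),
   Ins.stab (nat_lit 26) [46, 46] [] (nat_lit 0x15b020060300101),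
   Ins.stab (nat_lit 26) [48, 48] [] (nat_lit 0x15d0200f0300a01),
   Ins.stab (nat_lit 26) [52, 52] [] (nat_lit 0x1610202d0302401),
   Ins.stab (nat_lit 26) [55, 55] [] (nat_lit 0x1640204e0304201),
   Ins.stab (nat_lit 26) [59, 59] [] (nat_lit 0x168020880307801),
   Ins.stab (nat_lit 26) [66, 66] [] (nat_lit 0x16f02114030fd01),
   Ins.stab (nat_lit 27) [69, 69] [] (nat_lit 0x172020060300301),
   Ins.stab (nat_lit 27) [72, 72] [] (nat_lit 0x175020150300f01),
   Ins.stab (nat_lit 27) [74, 74] [] (nat_lit 0x177020240301c01),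
   Ins.stab (nat_lit 27) [79, 79] [] (nat_lit 0x17c0205b0304e01),
   Ins.stab (nat_lit 27) [90, 90] [] (nat_lit 0x1870212c0311401),
   Ins.cons (nat_lit 0x2) (nat_lit 1) (nat_lit 0x41) (nat_lit 0x6030040300202),
   Ins.cons (nat_lit 0xa) (nat_lit 1) (nat_lit 0x104) (nat_lit 0x420303b0303102),
   Ins.stab (nat_lit 24) [6, 0] [0, 6, 7] (nat_lit 0x1340109a0301601),
   Ins.stab (nat_lit 24) [6, 2] [2, 6, 8] (nat_lit 0x1350109c0301801),
   Ins.stab (nat_lit 24) [7, 1] [1, 7, 8] (nat_lit 0x135010ad0301e01),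
   Ins.stab (nat_lit 24) [12, 5] [5, 12, 15] (nat_lit 0x13c010680306101),
   Ins.stab (nat_lit 24) [13, 4] [4, 13, 15] (nat_lit 0x13c010750306e01),
   Ins.stab (nat_lit 24) [14, 3] [3, 14, 15] (nat_lit 0x13c010830307c01),
   Ins.stab (nat_lit 25) [24, 23] [23, 24, 25] (nat_lit 0x146010160300201),
   Ins.stab (nat_lit 25) [31, 27] [27, 31, 34] (nat_lit 0x14f0103d0303301),
   Ins.stab (nat_lit 25) [32, 27] [27, 32, 36] (nat_lit 0x1510103d0103303),
   Ins.stab (nat_lit 25) [33, 27] [27, 33, 37] (nat_lit 0x152010610304801),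
   Ins.stab (nat_lit 25) [34, 26] [26, 34, 37] (nat_lit 0x1520106e0305301),
   Ins.stab (nat_lit 25) [35, 27] [27, 35, 38] (nat_lit 0x153010610104803),
   Ins.stab (nat_lit 25) [37, 32] [32, 37, 42] (nat_lit 0x157010920308301),
   Ins.stab (nat_lit 25) [39, 25] [25, 39, 41] (nat_lit 0x156010a10309c01),
   Ins.stab (nat_lit 25) [40, 24] [24, 40, 41] (nat_lit 0x156010b2030ad01),
   Ins.stab (nat_lit 25) [41, 28] [28, 41, 44] (nat_lit 0x159010e9030c501),
   Ins.stab (nat_lit 25) [41, 29] [29, 41, 45] (nat_lit 0x15a010ea030c601),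
   Ins.stab (nat_lit 26) [54, 48] [48, 54, 55] (nat_lit 0x164010320303101),
   Ins.stab (nat_lit 26) [55, 50] [50, 55, 59] (nat_lit 0x168010480303d01),
   Ins.stab (nat_lit 26) [57, 48] [48, 57, 59] (nat_lit 0x168010530305201),
   Ins.stab (nat_lit 26) [59, 49] [49, 59, 61] (nat_lit 0x16a0107c0306e01),
   Ins.stab (nat_lit 26) [62, 46] [46, 62, 63] (nat_lit 0x16c0109c0309a01),
   Ins.stab (nat_lit 26) [62, 52] [52, 62, 66] (nat_lit 0x16f010a2030a101),
   Ins.stab (nat_lit 26) [62, 53] [53, 62, 67] (nat_lit 0x170010a2010a103),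
   Ins.stab (nat_lit 26) [63, 51] [51, 63, 66] (nat_lit 0x16f010c5030b201),
   Ins.stab (nat_lit 26) [63, 53] [53, 63, 68] (nat_lit 0x171010c6030b401),
   Ins.stab (nat_lit 26) [66, 47] [47, 66, 68] (nat_lit 0x171010fe030ea01),
   Ins.stab (nat_lit 27) [77, 72] [72, 77, 79] (nat_lit 0x17c010330303201),
   Ins.stab (nat_lit 27) [78, 72] [72, 78, 81] (nat_lit 0x17e0103d0303c01),
   Ins.stab (nat_lit 27) [79, 71] [71, 79, 81] (nat_lit 0x17e010520304601),
   Ins.stab (nat_lit 27) [79, 73] [73, 79, 83] (nat_lit 0x180010530304801),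
   Ins.stab (nat_lit 27) [81, 73] [73, 81, 84] (nat_lit 0x1810106e0306101),
   Ins.stab (nat_lit 27) [85, 70] [70, 85, 87] (nat_lit 0x184010ad0309c01),
   Ins.stab (nat_lit 27) [85, 76] [76, 85, 90] (nat_lit 0x187010b4030a201),
   Ins.stab (nat_lit 27) [86, 76] [76, 86, 91] (nat_lit 0x188010b4010a203),
   Ins.stab (nat_lit 24) [3, 2] [2, 3, 5, 7] (nat_lit 0x134011320103a0300901),
   Ins.stab (nat_lit 24) [4, 0] [0, 4, 5, 8] (nat_lit 0x13501132010430300b01),
   Ins.stab (nat_lit 24) [9, 5] [5, 9, 13] (nat_lit 0x13a01078010520103d01),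
   Ins.stab (nat_lit 25) [31, 29] [29, 31, 36, 40] (nat_lit 0x155011510103a0303501),
   Ins.stab (nat_lit 25) [31, 30] [30, 31, 37, 41] (nat_lit 0x15601152010400303601),
   Ins.stab (nat_lit 25) [33, 23] [23, 33, 34, 41] (nat_lit 0x1560114f0105c0304301),
   Ins.stab (nat_lit 25) [33, 29] [29, 33, 38, 44] (nat_lit 0x159011530105e0304a01),
   Ins.stab (nat_lit 25) [34, 28] [28, 34, 38, 45] (nat_lit 0x15a011530106b0305501),
   Ins.stab (nat_lit 26) [54, 52] [52, 54, 59, 63] (nat_lit 0x16c01168010360303501),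
   Ins.stab (nat_lit 26) [55, 47] [47, 55, 57, 63] (nat_lit 0x16c01166010430303a01),
   Ins.stab (nat_lit 26) [55, 53] [53, 55, 61, 66] (nat_lit 0x16f0116a0104a0304001),
   Ins.stab (nat_lit 26) [63, 49] [49, 63, 65, 67] (nat_lit 0x1700116e010c2030b001),
   Ins.stab (nat_lit 27) [71, 69] [69, 71, 72, 74] (nat_lit 0x17701175010090300801),
   Ins.stab (nat_lit 27) [77, 74] [74, 77, 81, 85] (nat_lit 0x1820117e010350303401),
   Ins.stab (nat_lit 27) [78, 69] [69, 78, 79, 85] (nat_lit 0x1820117c0103a0303901),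
   Ins.stab (nat_lit 27) [79, 75] [75, 79, 84, 90] (nat_lit 0x18701181010550304a01),
   Ins.stab (nat_lit 27) [85, 73] [73, 85, 88, 91] (nat_lit 0x18801185010b00309f01),
   Ins.cons (nat_lit 0x4) (nat_lit 1) (nat_lit 0x82) (nat_lit 0x1c0301a030170300f0300c0300802),
   Ins.stab (nat_lit 24) [9, 8] [8, 9, 15, 20] (nat_lit 0x1410113c010fd010fc010e7010c20104001)]

theorem ins3 : InsOK 24 0 392 T Y 3 I3 :=
  InsOK.of 10 (show lall (insOK (nat_lit 24) (nat_lit 0) (nat_lit 10) (nat_lit 392) T Y (nat_lit 3)) I3 = true by decide +kernel)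

def I : List Ins := I0 ++ (I1 ++ (I2 ++ (I3)))

theorem ins : InsOK 24 0 392 T Y 3 I := ins0.append (ins1.append (ins2.append (ins3)))

def K : List Nat := [nat_lit 0x9a0103a0103301]

def O : List Nat := [nat_lit 0x13e011390212d021250211b021100210a021090310803106011050110403100010fe020f7030f1030ef020ee030e6030dd010dc030d8030c3010c2030c1010bc030aa010a3010a10302103014030120300f03]

def U : List Nat :=
  [nat_lit 0x0,
   nat_lit 0x0,
   nat_lit 0x202,
   nat_lit 0x0,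
   nat_lit 0x802,
   nat_lit 0x160200902,
   nat_lit 0x0,
   nat_lit 0x1602,
   nat_lit 0x160200b0200902,
   nat_lit 0x0,
   nat_lit 0x3102,
   nat_lit 0x3202,
   nat_lit 0x3302,
   nat_lit 0x39020340203202,
   nat_lit 0x3a020350203302,
   nat_lit 0x43020360203302,
   nat_lit 0x5c020400203a020350203302,
   nat_lit 0x390203202,
   nat_lit 0x3a0203302,
   nat_lit 0x430203302,
   nat_lit 0x6802,
   nat_lit 0x5c0203a020350203302,
   nat_lit 0x5c0204a020400203a020350203302,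
   nat_lit 0x5c02055020400203a020350203302]

def C : List (List Nat) :=
  [[nat_lit 0x109010fe010d9010bd0101001],
   [nat_lit 0x0, nat_lit 0x10901104010d9010bd0101001],
   [nat_lit 0xd9010bd0101001, nat_lit 0xdc010be0101101, nat_lit 0x109010d9010bd0101001],
   [nat_lit 0xa30101401, nat_lit 0x0, nat_lit 0x0, nat_lit 0x10a010f0010dd010c30102201],
   [nat_lit 0x0, nat_lit 0xa40101501, nat_lit 0xa50101601, nat_lit 0xee010e5010db010bf010a50101601, nat_lit 0x10a010ff010f0010dd010c30102201],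
   [nat_lit 0xa70101701, nat_lit 0xa80101801, nat_lit 0xa01, nat_lit 0xee010db010bf010a50101601, nat_lit 0xee010db010d8010bf010a50101601, nat_lit 0x10a01105010ff010f0010dd010c30102201],
   [nat_lit 0x0, nat_lit 0xef010e7010de010c4010c2010ab0101301, nat_lit 0x1370112f0112e011200110c0110b0100501, nat_lit 0xac0105b01, nat_lit 0xa201, nat_lit 0xc0010a80101801, nat_lit 0x10901104010f7010d9010bd0101001],
   [nat_lit 0xd90101001, nat_lit 0x1370112f0112e0112b0112a011290112001115011140110d0110b010ed010080100501, nat_lit 0xef010e7010e6010de010c4010c2010ab0101301, nat_lit 0xc01, nat_lit 0xbf010a50101601, nat_lit 0xe01, nat_lit 0xdc0101101, nat_lit 0x109010f8010d9010bd0101001],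
   [nat_lit 0xef010e7010e6010de010da010c4010c2010ab0101301, nat_lit 0xb01, nat_lit 0x1001, nat_lit 0xdb010bf010a50101601, nat_lit 0xd01, nat_lit 0xf01, nat_lit 0x1101, nat_lit 0x1201, nat_lit 0x10901100010f8010d9010bd0101001],
   [nat_lit 0xc10101401, nat_lit 0xe70101301, nat_lit 0x1301, nat_lit 0x0, nat_lit 0x0, nat_lit 0x0, nat_lit 0x0, nat_lit 0x0, nat_lit 0x0, nat_lit 0x10a010f9010dd010c30102201],
   [nat_lit 0x1401, nat_lit 0x0, nat_lit 0x0, nat_lit 0xdd010c30102201, nat_lit 0x13c0113b011310112701126011130100201, nat_lit 0x131011130100201, nat_lit 0xe7010c20101301, nat_lit 0x1d01, nat_lit 0x0, nat_lit 0xdf010c50102a01, nat_lit 0x10a010dd010c30102201],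
   [nat_lit 0x0, nat_lit 0x1501, nat_lit 0x1601, nat_lit 0x13c0113b011310112a01128011260111e0111d011150111401113010080100201, nat_lit 0xc30102201, nat_lit 0x13701136011310111d01113010050100201, nat_lit 0xe7010de010c20101301, nat_lit 0x0, nat_lit 0x2601, nat_lit 0xc50102a01, nat_lit 0xee010e5010db010bf010a6010a50101601, nat_lit 0x10a010ff010f1010f0010dd010c30102201],
   [nat_lit 0x1701, nat_lit 0x1801, nat_lit 0x1901, nat_lit 0x1310112a0111e0111d011150111401113010080100201, nat_lit 0x13701136011310112a0111d01115011140111301008010050100201, nat_lit 0xc70102c01, nat_lit 0x0, nat_lit 0xe00102e01, nat_lit 0x2e01, nat_lit 0xc90103101, nat_lit 0xee010db010bf010a9010a50101601, nat_lit 0xee010db010d8010bf010aa010a50101601, nat_lit 0x10a01105010ff010f2010f0010dd010c30102201],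
   [nat_lit 0x0, nat_lit 0xe7010de010c4010c20101301, nat_lit 0x13401133011320113101116011140111301112010030100201, nat_lit 0x1a01, nat_lit 0x2201, nat_lit 0x1370113601133011320111d01114011120100501, nat_lit 0x1e01, nat_lit 0x2001, nat_lit 0x2801, nat_lit 0xee010e5010db010c6010bf010a6010a50101601, nat_lit 0x2a01, nat_lit 0x2b01, nat_lit 0x0, nat_lit 0x10a010ff010fa010f1010f0010dd010c30102201],
   [nat_lit 0x1b01, nat_lit 0x13501133011320113101116011140111301112010040100201, nat_lit 0xe0010c80102e01, nat_lit 0x1c01, nat_lit 0x1370113601133011320112a0111d0111401112010080100501, nat_lit 0x2c01, nat_lit 0x1f01, nat_lit 0x2101, nat_lit 0x3001, nat_lit 0xee010db010ca010bf010a9010a50101601, nat_lit 0x3101, nat_lit 0x12a0110f0110e0100801, nat_lit 0x3201, nat_lit 0xee010db010d8010cb010bf010aa010a50101601, nat_lit 0x10a01105010ff010fb010f2010f0010dd010c30102201],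
   [nat_lit 0xcc0104a01, nat_lit 0x2301, nat_lit 0x2401, nat_lit 0x1370113601133011320112a0111f0111d011140111201008010060100501, nat_lit 0x2501, nat_lit 0x2d01, nat_lit 0x2701, nat_lit 0x2f01, nat_lit 0x2901, nat_lit 0xee010e1010db010ca010bf010a9010a50101601, nat_lit 0x12a0111f011100110e010080100601, nat_lit 0x3301, nat_lit 0x3401, nat_lit 0xee010e2010db010d8010cb010bf010aa010a50101601, nat_lit 0xee010e8010e2010db010d8010cb010bf010aa010a50101601, nat_lit 0x10a0110501102010ff010fb010f2010f0010dd010c30102201],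
   [nat_lit 0x4a01, nat_lit 0x3501, nat_lit 0x4101, nat_lit 0x3601, nat_lit 0x3701, nat_lit 0x4201, nat_lit 0x3801, nat_lit 0x3901, nat_lit 0x3a01, nat_lit 0x12a0111f01117011100110e010eb01008010060100401, nat_lit 0xee010e1010db010cd010ca010bf010a9010a50101601, nat_lit 0xee010e2010db010d8010ce010cb010bf010aa010a50101601, nat_lit 0xee010e8010e2010db010d8010cf010cb010bf010aa010a50101601, nat_lit 0x4601, nat_lit 0x4701, nat_lit 0x4c01, nat_lit 0x10a0110501102010ff010fc010fb010f2010f0010dd010c30102201],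
   [nat_lit 0x101, nat_lit 0xef010e7010de010c4010c20101301, nat_lit 0x13701120010050100101, nat_lit 0xe7010c2010b40101301, nat_lit 0xe7010de010c2010b50101301, nat_lit 0x1400113e0113d011390113801137011360113301132011300112d0112c0112a01122011210111e01115011120110e011090110201100010fd010fc010f8010f6010f5010ea010d9010bd0109a010100100901007010060100501, nat_lit 0xef010e7010de010d0010c4010c20101301, nat_lit 0x13701133011310112001118011130111201005010020100101, nat_lit 0x13801137011330113101121011200111801113011120100601005010020100101, nat_lit 0xd10105b01, nat_lit 0x5b01, nat_lit 0x5c01, nat_lit 0xc0010ad010a80101801, nat_lit 0x5e01, nat_lit 0x6401, nat_lit 0x6501, nat_lit 0x6d01, nat_lit 0x10901104010f7010f3010d9010bd0101001],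
   [nat_lit 0xd9010ae0101001, nat_lit 0x1370112b0112a01129011200111501114010ed01008010050100101, nat_lit 0xef010e7010e6010de010c4010c2010af010ab0101301, nat_lit 0x5001, nat_lit 0x140011390113801137011360113301132011300112a01122011210111e01115011120110e011090110201100010fd010fc010f8010f6010f5010ea010d9010bd0109a010100100801007010060100501, nat_lit 0xe0010b60102e01, nat_lit 0x13701133011310112b0112a01129011200111901115011140111301112010ed0100801005010020100101, nat_lit 0xef010e7010e6010de010d2010c4010c2010af010ab0101301, nat_lit 0x13d011380113701133011310112c0112101120011180111301112010080100601005010020100101, nat_lit 0x5901, nat_lit 0x5d01, nat_lit 0xbf010b0010a50101601, nat_lit 0x6201, nat_lit 0x8101, nat_lit 0x6b01, nat_lit 0x7001, nat_lit 0x7401, nat_lit 0xdc010b10101101, nat_lit 0x109010f8010f4010d9010bd0101001],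
   [nat_lit 0xef010e7010e6010de010da010c4010c2010b2010ab0101301, nat_lit 0x4f01, nat_lit 0x7801, nat_lit 0x14001137011360113301132011300112a0111e01115011120110e011090110201100010fd010fc010f8010f6010f5010ea010d9010bd0109a01010010080100501, nat_lit 0x5101, nat_lit 0x7901, nat_lit 0x1380113701133011310112b0112a0112901123011200111901115011140111301112010ed010080100601005010020100101, nat_lit 0x13d011380113701133011310112c011240112101120011180111301112010ec0100801005010020100101, nat_lit 0xef010e7010e6010e3010de010d2010c4010c2010af010ab0101301, nat_lit 0x5a01, nat_lit 0xdb010bf010b3010a50101601, nat_lit 0x6001, nat_lit 0x6301, nat_lit 0x8501, nat_lit 0x6c01, nat_lit 0x7101, nat_lit 0x7501, nat_lit 0x8b01, nat_lit 0x8c01, nat_lit 0x10901100010f8010f5010d9010bd0101001],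
   [nat_lit 0x4b01, nat_lit 0x3b01, nat_lit 0x4301, nat_lit 0xee010e1010db010cd010ca010bf010b7010a9010a50101601, nat_lit 0xee010e2010db010d8010ce010cb010bf010b8010aa010a50101601, nat_lit 0xee010e8010e2010db010d8010cf010cb010bf010b9010aa010a50101601, nat_lit 0x4401, nat_lit 0x3c01, nat_lit 0x3d01, nat_lit 0x3e01, nat_lit 0x3f01, nat_lit 0x4001, nat_lit 0x4501, nat_lit 0x4801, nat_lit 0x4901, nat_lit 0x4d01, nat_lit 0x4e01, nat_lit 0x6a01, nat_lit 0x8701, nat_lit 0x9501, nat_lit 0x10a0110501102010ff010fc010fb010f6010f2010f0010dd010c30102201],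
   [nat_lit 0xef010e7010e6010de010da010d3010c4010c2010b2010ab0101301, nat_lit 0x1380113701133011310112b0112a0112901123011200111a0111901115011140111301112010ed01008010060100501003010020100101, nat_lit 0x13d011380113701133011310112c0112401121011200111b011180111301112010ec010080100501004010020100101, nat_lit 0x5201, nat_lit 0x5301, nat_lit 0x7a01, nat_lit 0x5401, nat_lit 0x7b01, nat_lit 0xef010e7010e6010e3010de010d4010d2010c4010c2010af010ab0101301, nat_lit 0xdb010d5010bf010b3010a50101601, nat_lit 0x5f01, nat_lit 0x8201, nat_lit 0x6601, nat_lit 0x6801, nat_lit 0x6e01, nat_lit 0x7201, nat_lit 0x7601, nat_lit 0x8d01, nat_lit 0x8e01, nat_lit 0xef010e7010e6010e3010de010d4010d2010c4010c2010ba010af010ab0101301, nat_lit 0x9a01, nat_lit 0x10901100010fd010f8010f5010d9010bd0101001],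
   [nat_lit 0x13d011380113701133011310112c011250112401121011200111b01118011130111201008010060100501004010020100101, nat_lit 0x5501, nat_lit 0xef010e7010e6010e4010de010da010d3010c4010c2010b2010ab0101301, nat_lit 0x5601, nat_lit 0x5701, nat_lit 0x8f01, nat_lit 0x5801, nat_lit 0xef010e7010e6010e4010de010da010d6010d3010c4010c2010b2010ab0101301, nat_lit 0x9101, nat_lit 0x9d01, nat_lit 0x9301, nat_lit 0x6101, nat_lit 0x6701, nat_lit 0x6901, nat_lit 0x6f01, nat_lit 0x7301, nat_lit 0x7701, nat_lit 0x9601, nat_lit 0xef010e7010e6010e4010de010da010d6010d3010c4010c2010bb010b2010ab0101301, nat_lit 0x9701, nat_lit 0x9b01, nat_lit 0x9f01, nat_lit 0x1090110301100010fd010f8010f5010d9010bd0101001],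
   [nat_lit 0x7c01, nat_lit 0xef010e9010e7010e6010e4010de010da010d3010c4010c2010b2010ab0101301, nat_lit 0x7d01, nat_lit 0x7e01, nat_lit 0x9001, nat_lit 0x7f01, nat_lit 0xef010e9010e7010e6010e4010de010da010d7010d3010c4010c2010b2010ab0101301, nat_lit 0x8001, nat_lit 0x9201, nat_lit 0x9e01, nat_lit 0x9401, nat_lit 0x8301, nat_lit 0x8401, nat_lit 0x8601, nat_lit 0x8801, nat_lit 0x8901, nat_lit 0x8a01, nat_lit 0xef010e9010e7010e6010e4010de010da010d7010d3010c4010c2010bc010b2010ab0101301, nat_lit 0x9801, nat_lit 0x9901, nat_lit 0x9c01, nat_lit 0xa001, nat_lit 0xa101, nat_lit 0x109011080110301100010fd010f8010f5010d9010bd0101001]]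

theorem ord : ordsOK 2 (Nat.succ 3) 10 392 (insL I) K [1] O = true :=
  show ordsOK (nat_lit 2) (Nat.succ (nat_lit 3)) (nat_lit 10) (nat_lit 392) (insL I) K [1] O = true by decide +kernel

theorem tgt0 : TgtOK 2 392 T 2 3 (K ++ insL I) U C 0 12 :=
  TgtOK.of 10 12 rfl (show tgtRows (nat_lit 2) (nat_lit 10) (nat_lit 392) T (nat_lit 2) (nat_lit 3) (K ++ insL I) U C (nat_lit 0) (nat_lit 12) = true by decide +kernel)

theorem tgt1 : TgtOK 2 392 T 2 3 (K ++ insL I) U C 12 17 :=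
  TgtOK.of 10 5 rfl (show tgtRows (nat_lit 2) (nat_lit 10) (nat_lit 392) T (nat_lit 2) (nat_lit 3) (K ++ insL I) U C (nat_lit 12) (nat_lit 5) = true by decide +kernel)

theorem tgt2 : TgtOK 2 392 T 2 3 (K ++ insL I) U C 17 21 :=
  TgtOK.of 10 4 rfl (show tgtRows (nat_lit 2) (nat_lit 10) (nat_lit 392) T (nat_lit 2) (nat_lit 3) (K ++ insL I) U C (nat_lit 17) (nat_lit 4) = true by decide +kernel)

theorem tgt3 : TgtOK 2 392 T 2 3 (K ++ insL I) U C 21 24 :=
  TgtOK.of 10 3 rfl (show tgtRows (nat_lit 2) (nat_lit 10) (nat_lit 392) T (nat_lit 2) (nat_lit 3) (K ++ insL I) U C (nat_lit 21) (nat_lit 3) = true by decide +kernel)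

theorem tgt : TgtOK 2 392 T 2 3 (K ++ insL I) U C 0 24 := ((tgt0.join tgt1).join tgt2).join tgt3

end Cfsg.Agent.Comp.F4M
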